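import Cfsg.Agent.H740.TC.RatThreeC
import Cfsg.Agent.H740.OreM.Threes
import Cfsg.Agent.H606.OreM.ZB

/-!
# S4173, row M: the values of the irreducible characters at the class `3A` (helper740)

* `bound` : `s` of order 3 commuting with `z` with fixed space of order `2 ^ 12` on `Λ/2Λ`, `χ(1) ≥ 10 ^ 6`:
  `- 0.0252 χ(1) ≤ Re χ(s) ≤ 0.0426 χ(1)`;
* `isConj_inv` : `s` is conjugate to `s⁻¹`.
-/

set_option autoImplicit false
set_option maxRecDepth 100000

namespace Cfsg.Agent.H740.TC.RatThree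

open Cfsg Cfsg.Agent.MonsterX Cfsg.Agent.MonsterX.InstData Cfsg.Agent.MonsterX.MainPack Cfsg.Agent.MonsterU
open Cfsg.Agent.BpSpor.MBigModel
open Cfsg.Agent.LThreeMB (fr)
open Subgroup (centralizer mem_centralizer_singleton_iff)

/-- **The bound.** -/
theorem bound (hC : ∀ x : MG, orderOf x = 41 → Nat.card ↥(centralizer ({x} : Set MG)) = 41)
    {s : ↥(centralizer ({zz} : Set MG))} (hs : orderOf s = 3) (hfr : fr (pi s) = 4096) (χ : IrrCharacter MG)
    (hd : 1000000 ≤ charDegree (χ : MG → ℂ)) :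
    -((252 / 10000 : ℝ) * (charDegree (χ : MG → ℂ) : ℝ)) ≤ ((χ : MG → ℂ) s).re ∧
      ((χ : MG → ℂ) s).re ≤ (426 / 10000 : ℝ) * (charDegree (χ : MG → ℂ) : ℝ) := by
  have := finite
  obtain ⟨n, ρ, hρ, hρχ⟩ := id χ.2
  obtain ⟨y4, h4Q, h4, hc4⟩ := H606.OreM.exists_four
  obtain ⟨y2, h2Q, h2, hta⟩ := H606.OreM.exists_two
  obtain ⟨a, b, c, e, -, -, hz⟩ := H606.OreM.values χ hta
  have hdeg : charDegree (χ : MG → ℂ) = n := by
    unfold charDegree
    rw [← hρχ]
    simp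
  have h41 := H606.OreM.zbound hC χ hz
  rw [hdeg] at h41 hd ⊢
  rw [← hρχ] at hz ⊢
  have hs3 : (s : MG) * s * s = 1 := by
    have h1 : s ^ 3 = 1 := by rw [← hs, pow_orderOf_eq_one]
    have h2 : s * s * s = 1 := by rw [← h1, pow_succ, pow_two]
    exact congrArg Subtype.val h2
  exact bound_abs chart h4Q h4 hc4 s.2 hs3 hfr ρ hz h41 hd

/-- **Elements of order 3 commuting with `z` are real.** -/
theorem isConj_inv {s : ↥(centralizer ({zz} : Set MG))} (hs : orderOf s = 3) : IsConj (s : MG) (s : MG)⁻¹ := by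
  obtain ⟨c, hc⟩ := H740.OreM.Threes.real_in hs
  exact isConj_iff.2 ⟨c, congrArg Subtype.val hc⟩

end Cfsg.Agent.H740.TC.RatThree
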