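import Cfsg.Agent.H740.OreM.CaseT
import Cfsg.Agent.H844.Ore.BType
import Cfsg.Agent.H979.OddB
import Cfsg.Agent.H979.BTrans
import Cfsg.Agent.H199.NSmMon

/-!
# S4173, row M: elements with a power of class `2A` (helper740)

`m3` : from the statement on the centralizers in `B` of the elements commuting with no involution `2B`.
-/

set_option autoImplicit false
set_option maxRecDepth 100000

namespace Cfsg.Agent.H740.TC.MThree

open Cfsg Cfsg.Agent.MonsterX Cfsg.Agent.MonsterX.InstData Cfsg.Agent.MonsterX.MainPack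
open Cfsg.Agent.MonsterP Cfsg.Agent.MonsterN Cfsg.Agent.LThreeMB
open Cfsg.Agent.BpSpor.MBigModel Cfsg.Agent.H199.NSmMon
open Subgroup (centralizer zpowers center mem_centralizer_singleton_iff)
open Cfsg.Agent.H844.Ore (TwoB)

theorem not_ta {v : MG} (h : IsConj zz v) : ¬ LThreeB.Row.TA v := by
  intro ht
  obtain ⟨c, hc⟩ := isConj_iff.1 h
  have h1 := card_cent_t ht
  rw [BpSpor.card_cent_of_conj hc, card_cent_z] at h1
  norm_num at h1

theorem ta_conj' {t : MG} (ht : LThreeB.Row.TA t) (g : MG) : LThreeB.Row.TA (g * t * g⁻¹) :=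
  LThreeB.Par.ta_conj LitFin.all t g ht

theorem ta_isConj {s t : MG} (hs : LThreeB.Row.TA s) (ht : LThreeB.Row.TA t) : IsConj s t := by
  unfold LThreeB.Row.TA LThreeB.Par.TA at hs ht
  exact hs.symm.trans ht

section gen

variable {G : Type*} [Group G]

theorem conj_comm {k t₁ t : G} (h : k * t₁ * k⁻¹ = t) {c : G} (hc : c * t₁ = t₁ * c) :
    (k * c * k⁻¹) * t = t * (k * c * k⁻¹) := by
  rw [← h]
  calc (k * c * k⁻¹) * (k * t₁ * k⁻¹) = k * (c * t₁) * k⁻¹ := by group
    _ = k * (t₁ * c) * k⁻¹ := by rw [hc]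
    _ = _ := by group

/-- conjugation of centralizers -/
def conjC {k t₁ t : G} (h : k * t₁ * k⁻¹ = t) : ↥(centralizer ({t₁} : Set G)) ≃* ↥(centralizer ({t} : Set G)) where
  toFun c := ⟨k * c * k⁻¹, mem_centralizer_singleton_iff.2 (conj_comm h (mem_centralizer_singleton_iff.1 c.2))⟩
  invFun c := ⟨k⁻¹ * c * k, mem_centralizer_singleton_iff.2 (by
    have h' : k⁻¹ * t * k⁻¹⁻¹ = t₁ := by rw [← h]; group
    have := conj_comm h' (mem_centralizer_singleton_iff.1 c.2)
    rwa [inv_inv] at this)⟩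
  left_inv c := Subtype.ext (by show k⁻¹ * (k * (c : G) * k⁻¹) * k = c; group)
  right_inv c := Subtype.ext (by show k * (k⁻¹ * (c : G) * k) * k⁻¹ = c; group)
  map_mul' a b := Subtype.ext (by
    show k * ((a : G) * b) * k⁻¹ = k * a * k⁻¹ * (k * b * k⁻¹); group)

/-- conjugation of the quotients by the centers -/
theorem exists_conjQ {k t₁ t : G} (h : k * t₁ * k⁻¹ = t) :
    ∃ κ : ↥(centralizer ({t₁} : Set G)) ⧸ center ↥(centralizer ({t₁} : Set G)) ≃*
      ↥(centralizer ({t} : Set G)) ⧸ center ↥(centralizer ({t} : Set G)),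
      ∀ c : ↥(centralizer ({t₁} : Set G)), κ (QuotientGroup.mk c) = QuotientGroup.mk (conjC h c) := by
  have h1 : (center ↥(centralizer ({t₁} : Set G))).map (conjC h).toMonoidHom = center ↥(centralizer ({t} : Set G)) := by
    ext c
    constructor
    · rintro ⟨d, hd, rfl⟩
      rw [Subgroup.mem_center_iff]
      intro e
      obtain ⟨e, rfl⟩ := (conjC h).surjective e
      show conjC h e * conjC h d = conjC h d * conjC h e
      rw [← map_mul, ← map_mul, Subgroup.mem_center_iff.1 hd e]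
    · intro hc
      refine ⟨(conjC h).symm c, ?_, (conjC h).apply_symm_apply c⟩
      refine Subgroup.mem_center_iff.2 fun e => ?_
      apply (conjC h).injective
      rw [map_mul, map_mul, (conjC h).apply_symm_apply]
      exact Subgroup.mem_center_iff.1 hc _
  exact ⟨QuotientGroup.congr _ _ (conjC h) h1, fun c => rfl⟩

/-- the center of order 2 -/
theorem cen_of {t : G} (htt : t * t = 1) (ht1 : t ≠ 1)
    (h2 : Nat.card ↥(center ↥(centralizer ({t} : Set G))) = 2) {c : ↥(centralizer ({t} : Set G))}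
    (hc : c ∈ center ↥(centralizer ({t} : Set G))) : (c : G) = 1 ∨ (c : G) = t := by
  have htc : (⟨t, mem_centralizer_singleton_iff.2 rfl⟩ : ↥(centralizer ({t} : Set G))) ∈
      center ↥(centralizer ({t} : Set G)) := by
    rw [Subgroup.mem_center_iff]
    intro d
    exact Subtype.ext (mem_centralizer_singleton_iff.1 d.2)
  have hfin : Finite ↥(center ↥(centralizer ({t} : Set G))) := Nat.finite_of_card_ne_zero (by rw [h2]; norm_num)
  by_contra hcon
  push Not at hcon
  let F : Fin 3 → ↥(center ↥(centralizer ({t} : Set G))) := ![1, ⟨_, htc⟩, ⟨c, hc⟩]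
  have hF : Function.Injective F := by
    have e1 : F 0 ≠ F 1 := fun h => ht1 (congrArg (fun y : ↥(center ↥(centralizer ({t} : Set G))) =>
      ((y : ↥(centralizer ({t} : Set G))) : G)) h).symm
    have e2 : F 0 ≠ F 2 := fun h => hcon.1 (congrArg (fun y : ↥(center ↥(centralizer ({t} : Set G))) =>
      ((y : ↥(centralizer ({t} : Set G))) : G)) h).symm
    have e3 : F 1 ≠ F 2 := fun h => hcon.2 (congrArg (fun y : ↥(center ↥(centralizer ({t} : Set G))) =>
      ((y : ↥(centralizer ({t} : Set G))) : G)) h).symm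
    intro a b hab
    fin_cases a <;> fin_cases b
    · rfl
    · exact absurd hab e1
    · exact absurd hab e2
    · exact absurd hab.symm e1
    · rfl
    · exact absurd hab e3
    · exact absurd hab.symm e2
    · exact absurd hab.symm e3
    · rfl
  have h3 := Nat.card_le_card_of_injective F hF
  rw [h2, Nat.card_eq_fintype_card, Fintype.card_fin] at h3
  norm_num at h3

variable {B : Type*} [Group B]

/-- changing the cover -/
theorem exists_change {t₀ t₁ : G} (hB : ∀ α : MulAut B, ∃ g : B, ∀ s : B, α s = g * s * g⁻¹) {m : G}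
    (hm : m * t₀ * m⁻¹ = t₁)
    (e : ↥(centralizer ({t₁} : Set G)) ⧸ center ↥(centralizer ({t₁} : Set G)) ≃* B)
    (e' : ↥(centralizer ({t₀} : Set G)) ⧸ center ↥(centralizer ({t₀} : Set G)) ≃* B)
    (w : ↥(centralizer ({t₀} : Set G))) : ∃ (r : G) (w₁ : ↥(centralizer ({t₁} : Set G))),
      r * w * r⁻¹ = w₁ ∧ r * t₀ * r⁻¹ = t₁ ∧ e (QuotientGroup.mk w₁) = e' (QuotientGroup.mk w) := by
  obtain ⟨κ, hκ⟩ := exists_conjQ hm
  obtain ⟨b, hb⟩ := hB ((e'.symm.trans κ).trans e)
  obtain ⟨β, hβ⟩ := QuotientGroup.mk_surjective (e.symm b)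
  have hβ' : e (QuotientGroup.mk β) = b := by rw [hβ, e.apply_symm_apply]
  refine ⟨(β : G)⁻¹ * m, β⁻¹ * conjC hm w * β, ?_, ?_, ?_⟩
  · show (β : G)⁻¹ * m * w * ((β : G)⁻¹ * m)⁻¹ = (β : G)⁻¹ * (m * w * m⁻¹) * β
    group
  · have hβt := mem_centralizer_singleton_iff.1 β.2
    calc (β : G)⁻¹ * m * t₀ * ((β : G)⁻¹ * m)⁻¹ = (β : G)⁻¹ * (m * t₀ * m⁻¹) * β := by group
      _ = (β : G)⁻¹ * (t₁ * β) := by rw [hm, mul_assoc]
      _ = (β : G)⁻¹ * (β * t₁) := by rw [hβt]
      _ = t₁ := by group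
  · have h3 := hb (e' (QuotientGroup.mk w))
    have h4 : ((e'.symm.trans κ).trans e) (e' (QuotientGroup.mk w)) = e (QuotientGroup.mk (conjC hm w)) := by
      show e (κ (e'.symm (e' (QuotientGroup.mk w)))) = _
      rw [e'.symm_apply_apply, hκ]
    rw [h4] at h3
    have h5 : e (QuotientGroup.mk (β⁻¹ * conjC hm w * β)) =
        (e (QuotientGroup.mk β))⁻¹ * e (QuotientGroup.mk (conjC hm w)) * e (QuotientGroup.mk β) := by
      rw [← map_inv, ← map_mul, ← map_mul]
      rfl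
    rw [h5, hβ', h3]
    group

/-- lifting commuting elements -/
theorem comm_or {t : G} (hcen : ∀ c ∈ center ↥(centralizer ({t} : Set G)), (c : G) = 1 ∨ (c : G) = t)
    (e : ↥(centralizer ({t} : Set G)) ⧸ center ↥(centralizer ({t} : Set G)) ≃* B)
    (g w : ↥(centralizer ({t} : Set G)))
    (h : e (QuotientGroup.mk g) * e (QuotientGroup.mk w) = e (QuotientGroup.mk w) * e (QuotientGroup.mk g)) :
    (g : G) * w = w * g ∨ (g : G) * w * (g : G)⁻¹ = w * t := by
  have h3 : (QuotientGroup.mk (g * w * (w * g)⁻¹) :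
      ↥(centralizer ({t} : Set G)) ⧸ center ↥(centralizer ({t} : Set G))) = 1 := by
    apply e.injective
    have h4 : e (QuotientGroup.mk (g * w * (w * g)⁻¹)) =
        e (QuotientGroup.mk g) * e (QuotientGroup.mk w) * (e (QuotientGroup.mk w) * e (QuotientGroup.mk g))⁻¹ := by
      rw [← map_mul, ← map_mul, ← map_inv, ← map_mul]
      rfl
    rw [h4, h, mul_inv_cancel, map_one]
  rcases hcen _ ((QuotientGroup.eq_one_iff _).1 h3) with h5 | h5
  · left
    have h6 : (g : G) * w * ((w : G) * g)⁻¹ = 1 := h5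
    exact mul_inv_eq_one.1 h6
  · right
    have h6 : (g : G) * w * ((w : G) * g)⁻¹ = t := h5
    have hwt : (w : G) * t = t * w := mem_centralizer_singleton_iff.1 w.2
    calc (g : G) * w * (g : G)⁻¹ = ((g : G) * w * ((w : G) * g)⁻¹) * w := by group
      _ = t * w := by rw [h6]
      _ = _ := hwt.symm

/-- the order of the centralizer -/
theorem card_le {t g₁ : G} [Finite G] (h2 : Nat.card ↥(center ↥(centralizer ({t} : Set G))) = 2)
    (e : ↥(centralizer ({t} : Set G)) ⧸ center ↥(centralizer ({t} : Set G)) ≃* B)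
    (hle : ∀ c : G, c * g₁ = g₁ * c → c * t = t * c) (hg : g₁ ∈ centralizer ({t} : Set G)) {K : ℕ}
    (hK : Nat.card ↥(centralizer ({e (QuotientGroup.mk ⟨g₁, hg⟩)} : Set B)) ≤ K) :
    Nat.card ↥(centralizer ({g₁} : Set G)) ≤ 2 * K := by
  have hfB : Finite B := Finite.of_surjective e e.surjective
  let ι : ↥(centralizer ({g₁} : Set G)) →* ↥(centralizer ({t} : Set G)) :=
    Subgroup.inclusion (fun c hc => mem_centralizer_singleton_iff.2 (hle c (mem_centralizer_singleton_iff.1 hc)))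
  let φ : ↥(centralizer ({g₁} : Set G)) →* B :=
    e.toMonoidHom.comp ((QuotientGroup.mk' (center ↥(centralizer ({t} : Set G)))).comp ι)
  have h4 : Nat.card ↥φ.ker ≤ 2 := by
    rw [← h2]
    have hm : ∀ c ∈ φ.ker, ι c ∈ center ↥(centralizer ({t} : Set G)) := by
      intro c hc
      have h1 : e (QuotientGroup.mk (ι c)) = 1 := MonoidHom.mem_ker.1 hc
      refine (QuotientGroup.eq_one_iff _).1 (e.injective ?_)
      rw [h1, map_one]
    refine Nat.card_le_card_of_injective (fun c : ↥φ.ker => (⟨ι c, hm c c.2⟩ : ↥(center ↥(centralizer ({t} : Set G)))))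
      fun a b hab => ?_
    have h1 : ι a = ι b := congrArg Subtype.val hab
    exact Subtype.ext (Subgroup.inclusion_injective _ h1)
  have h5 : Nat.card ↥φ.range ≤ K := by
    refine le_trans (Nat.card_le_card_of_injective _ (Subgroup.inclusion_injective ?_)) hK
    rintro _ ⟨c, rfl⟩
    rw [mem_centralizer_singleton_iff]
    have h1 : φ c * φ ⟨g₁, mem_centralizer_singleton_iff.2 rfl⟩ = φ ⟨g₁, mem_centralizer_singleton_iff.2 rfl⟩ * φ c := by
      rw [← map_mul, ← map_mul]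
      congr 1
      exact Subtype.ext (mem_centralizer_singleton_iff.1 c.2)
    exact h1
  rw [Subgroup.card_eq_card_quotient_mul_card_subgroup φ.ker,
    Nat.card_congr (QuotientGroup.quotientKerEquivRange φ).toEquiv, mul_comm]
  exact Nat.mul_le_mul h4 h5

end gen

/-- **Elements with a power of class `2A`.** -/
theorem m3 {K : ℕ} (hCB : ∀ g : Spor.BabyMonster, g ≠ 1 → (∃ u : Spor.BabyMonster, TwoB u ∧ g * u = u * g) ∨
      Nat.card ↥(centralizer ({g} : Set Spor.BabyMonster)) ≤ K) {t g : MG} (ht : LThreeB.Row.TA t)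
    (htg : t ∈ zpowers g) (hgt : g ≠ t) : Ev g ∨ Nat.card ↥(centralizer ({g} : Set MG)) ≤ 2 * K := by
  have hfin : Finite MG := BpSpor.MBigModel.finite
  have hB : Spor.IsoB Spor.BabyMonster := ⟨MulEquiv.refl _⟩
  obtain ⟨t₁, ht₁, h2, ⟨e⟩⟩ := H979.OddB.exists_cover hB
  obtain ⟨k, hk⟩ := isConj_iff.1 (ta_isConj ht₁ ht)
  -- conjugate `g`
  obtain ⟨g₁, hg₁⟩ : ∃ g₁, g₁ = k⁻¹ * g * k := ⟨_, rfl⟩
  have hgk : g = k * g₁ * k⁻¹ := by rw [hg₁]; group
  have ht₁g : t₁ ∈ zpowers g₁ := by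
    obtain ⟨i, hi⟩ := Subgroup.mem_zpowers_iff.1 htg
    refine Subgroup.mem_zpowers_iff.2 ⟨i, ?_⟩
    have h1 : g₁ ^ i = k⁻¹ * g ^ i * k := by
      have := conj_zpow (i := i) (a := k⁻¹) (b := g)
      rwa [inv_inv, ← hg₁] at this
    rw [h1, hi, ← hk]
    group
  have hle : ∀ c : MG, c * g₁ = g₁ * c → c * t₁ = t₁ * c := by
    intro c hc
    obtain ⟨i, hi⟩ := Subgroup.mem_zpowers_iff.1 ht₁g
    rw [← hi]
    exact (show Commute c g₁ from hc).zpow_right i
  have hg₁t : g₁ ∈ centralizer ({t₁} : Set MG) := mem_centralizer_singleton_iff.2 (hle g₁ rfl)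
  have hto : orderOf t₁ = 2 := LThreeB.Final.orderOf_of_TA ht₁
  have ht1 : t₁ ≠ 1 := by
    intro h
    rw [h, orderOf_one] at hto
    norm_num at hto
  have htt : t₁ * t₁ = 1 := by rw [← pow_two, ← hto, pow_orderOf_eq_one]
  have hcen := fun c hc => cen_of htt ht1 h2 (c := c) hc
  have hne : e (QuotientGroup.mk ⟨g₁, hg₁t⟩) ≠ 1 := by
    intro h
    have h1 : (QuotientGroup.mk ⟨g₁, hg₁t⟩ :
        ↥(centralizer ({t₁} : Set MG)) ⧸ center ↥(centralizer ({t₁} : Set MG))) = 1 := by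
      apply e.injective
      rw [h, map_one]
    rcases hcen _ ((QuotientGroup.eq_one_iff _).1 h1) with h3 | h3
    · have h4 : g₁ = 1 := h3
      rw [h4, Subgroup.zpowers_one_eq_bot, Subgroup.mem_bot] at ht₁g
      exact ht1 ht₁g
    · have h4 : g₁ = t₁ := h3
      apply hgt
      rw [hgk, h4, hk]
  rcases hCB _ hne with ⟨u, ⟨t₀, ht₀, -, e', w, hw2, hwz, hwt, hwu⟩, hgu⟩ | hcard
  · left
    obtain ⟨m, hm⟩ := isConj_iff.1 (ta_isConj ht₀ ht₁)
    obtain ⟨r, w₁, hr1, hr2, hr3⟩ := exists_change (H979.BTrans.inner_b hB) hm e e' w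
    have hzw : IsConj zz (w₁ : MG) := IsConj.trans (show IsConj zz (w : MG) from hwz) (isConj_iff.2 ⟨r, hr1⟩)
    have hwt₁ : LThreeB.Row.TA ((w₁ : MG) * t₁) := by
      have h3 := ta_conj' hwt r
      have h4 : r * ((w : MG) * t₀) * r⁻¹ = (w₁ : MG) * t₁ := by
        calc r * ((w : MG) * t₀) * r⁻¹ = (r * w * r⁻¹) * (r * t₀ * r⁻¹) := by group
          _ = _ := by rw [hr1, hr2]
      rwa [h4] at h3
    have hcom : g₁ * w₁ = w₁ * g₁ := by
      rcases comm_or hcen e ⟨g₁, hg₁t⟩ w₁ (by rw [hr3, hwu, hgu]) with h5 | h5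
      · exact h5
      · exfalso
        exact not_ta (hzw.trans (isConj_iff.2 ⟨g₁, h5⟩)) hwt₁
    obtain ⟨q, hq⟩ := isConj_iff.1 hzw
    refine ⟨k * q, ?_⟩
    have h8 : (k * q) * zz * (k * q)⁻¹ = k * w₁ * k⁻¹ := by
      rw [← hq]
      group
    rw [h8, hgk]
    calc k * (w₁ : MG) * k⁻¹ * (k * g₁ * k⁻¹) = k * (w₁ * g₁) * k⁻¹ := by group
      _ = k * (g₁ * w₁) * k⁻¹ := by rw [hcom]
      _ = _ := by group
  · right
    rw [hgk, BpSpor.card_cent_of_conj (rfl : k * g₁ * k⁻¹ = k * g₁ * k⁻¹)]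
    exact card_le h2 e hle hg₁t hcard

end Cfsg.Agent.H740.TC.MThree
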