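import Cfsg.Agent.H562.OreM.QVal
import Cfsg.Agent.LThreeMB.Fus

/-!
# Elements of order 3 over a fixed space on `Λ/2Λ`: weights (helper740)

`s : Co1`, `s ^ 3 = 1`, `Fix s` the fixed space on `Λ/2Λ`.

* `gauss_sq` : `(∑_{v ∈ Fix s} (-1)^q(v))² = |Fix s|`;
* `card_two_le` : if `|Fix s| = 4096` then at most 2079 vectors of `Fix s` are of type 2;
* `NN` : the subgroup of the `x ∈ Q` with `eta x ∈ (s + 1) Λ/2Λ`, `card_NN`, `sum_NN`, `conj_NN`.
-/

set_option autoImplicit false

namespace Cfsg.Agent.H740.TC.RatThree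

open Module Cfsg Cfsg.Spor
open Cfsg.Agent.H847.Avg Cfsg.Agent.H847.QTrace Cfsg.Agent.H847.QDeg
open Cfsg.Agent.H847.Co1Small (sg sg_zero sg_one sg_add sg_sq zcases)
open Cfsg.Agent.LThreeMB (fr)
open Cfsg.Agent.MonsterU.Lam2
open Cfsg.Agent.MonsterU.Ch
open Cfsg.Agent.ConwayFacts.NormL2 (ne_zero_of_type)

attribute [local instance] Cfsg.Agent.H847.QTrace.fintypeL2

/-- `v ↦ s v + v` -/
noncomputable def D (s : Co1) : L2 →+ L2 where
  toFun v := s • v + v
  map_zero' := by rw [smul_zero, add_zero]
  map_add' v w := by rw [smul_add]; abel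

theorem D_apply (s : Co1) (v : L2) : D s v = s • v + v := rfl

theorem mem_ker {s : Co1} {v : L2} : v ∈ (D s).ker ↔ s • v = v := by
  rw [AddMonoidHom.mem_ker, D_apply]
  constructor
  · exact eq_of_add_eq_zero
  · intro h; rw [h, add_self]

theorem fr_eq (s : Co1) : fr s = Nat.card (D s).ker := by
  unfold fr
  exact Nat.card_congr (Equiv.subtypeEquivRight fun v => mem_ker.symm)

theorem card_mul (s : Co1) : fr s * Nat.card (D s).range = 2 ^ 24 := by
  have h2 := AddSubgroup.card_eq_card_quotient_mul_card_addSubgroup (D s).ker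
  rw [Nat.card_congr (QuotientAddGroup.quotientKerEquivRange (D s)).toEquiv, card_L2] at h2
  rw [fr_eq, h2, mul_comm]

section lin

variable {s : Co1} (h3 : s * s * s = 1)

include h3 in
theorem smul_three (v : L2) : s • s • s • v = v := by
  rw [← mul_smul, ← mul_smul, h3, one_smul]

/-- the projection on the fixed space -/
noncomputable def T (s : Co1) (w : L2) : L2 := w + s • w + s • s • w

include h3 in
theorem T_mem (w : L2) : T s w ∈ (D s).ker := by
  rw [mem_ker, T, smul_add, smul_add, smul_three h3]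
  abel

theorem bf_T {u : L2} (hu : s • u = u) (w : L2) : bf u (T s w) = bf u w := by
  have h1 : ∀ x : L2, bf u (s • x) = bf u x := fun x => by
    conv_lhs => rw [← hu]
    exact bf_smul1 s u x
  rw [T, bf_add_right, bf_add_right, h1, h1, h1]
  generalize bf u w = a
  revert a; decide

include h3 in
/-- the fixed space is nondegenerate -/
theorem exists_ker {u : L2} (hu : u ∈ (D s).ker) (h0 : u ≠ 0) : ∃ w : (D s).ker, bf u w = 1 := by
  obtain ⟨y, hy⟩ := exists_bf h0
  refine ⟨⟨T s y, T_mem h3 y⟩, ?_⟩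
  rw [bf_T (mem_ker.1 hu), bf_comm, hy]

/-- the fixed space and the image are orthogonal -/
theorem bf_range {u : L2} (hu : u ∈ (D s).ker) {w : L2} (hw : w ∈ (D s).range) : bf u w = 0 := by
  obtain ⟨y, rfl⟩ := hw
  rw [D_apply, bf_add_right]
  have h1 : bf u (s • y) = bf u y := by
    conv_lhs => rw [← mem_ker.1 hu]
    exact bf_smul1 s u y
  rw [h1]
  generalize bf u y = a
  revert a; decide

/-- the vectors orthogonal to the image are fixed -/
theorem exists_range {u : L2} (hu : u ∉ (D s).ker) : ∃ w : (D s).range, bf u w = 1 := by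
  by_contra hn
  push Not at hn
  apply hu
  rw [mem_ker]
  have h1 : ∀ y : L2, bf (s⁻¹ • u + u) y = 0 := by
    intro y
    have h2 : bf u (D s y) = 0 := by
      rcases zcases (bf u (D s y)) with h | h
      · exact h
      · exact absurd h (hn ⟨_, ⟨y, rfl⟩⟩)
    have h3 : bf (s⁻¹ • u) y = bf u (s • y) := by
      rw [← bf_smul1 s (s⁻¹ • u) y, smul_inv_smul]
    rw [D_apply, bf_add_right] at h2
    rw [bf_add_left, h3, h2]
  have h4 := eq_of_add_eq_zero (bf_nondeg h1)
  calc s • u = s • s⁻¹ • u := by rw [h4]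
    _ = u := smul_inv_smul s u

end lin

section gauss

variable {s : Co1} (h3 : s * s * s = 1)

noncomputable instance : Fintype (D s).ker := Fintype.ofFinite _

open Classical in
/-- the sum of the characters -/
theorem sum_bf_ker (h3 : s * s * s = 1) (u : (D s).ker) :
    ∑ v : (D s).ker, sg (bf u v) = if u = 0 then (Nat.card (D s).ker : ℂ) else 0 := by
  split_ifs with h
  · subst h
    have : ∀ v : (D s).ker, sg (bf ((0 : (D s).ker) : L2) v) = 1 := fun v => by
      rw [show ((0 : (D s).ker) : L2) = 0 from rfl, bf_zero_left, sg_zero]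
    rw [Finset.sum_congr rfl fun v _ => this v, Finset.sum_const, Finset.card_univ, nsmul_eq_mul, mul_one,
      Nat.card_eq_fintype_card]
  · obtain ⟨w, hw⟩ := exists_ker h3 u.2 (fun e => h (Subtype.ext e))
    have h1 : ∑ v : (D s).ker, sg (bf u v) = ∑ v : (D s).ker, -sg (bf u v) := by
      refine Fintype.sum_equiv (Equiv.addRight w) _ _ fun v => ?_
      rw [Equiv.coe_addRight, show ((v + w : (D s).ker) : L2) = v + w from rfl, bf_add_right, sg_add, hw, sg_one]
      ring
    rw [Finset.sum_neg_distrib] at h1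
    have h2 : (2 : ℂ) * ∑ v : (D s).ker, sg (bf u v) = 0 := by linear_combination h1
    exact (mul_eq_zero.1 h2).resolve_left two_ne_zero

/-- **The Gauss sum of the fixed space.** -/
theorem gauss_sq (h3 : s * s * s = 1) :
    (∑ v : (D s).ker, sg (qf v)) * (∑ v : (D s).ker, sg (qf v)) = (Nat.card (D s).ker : ℂ) := by
  classical
  rw [Finset.sum_mul_sum, Finset.sum_comm]
  have h1 : ∀ v : (D s).ker, ∑ u : (D s).ker, sg (qf u) * sg (qf v) =
      ∑ u : (D s).ker, sg (qf u) * sg (bf u v) := by
    intro v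
    refine (Fintype.sum_equiv (Equiv.addRight v) _ _ fun u => ?_).symm
    rw [Equiv.coe_addRight, show ((u + v : (D s).ker) : L2) = u + v from rfl, qf_add, ← sg_add, ← sg_add]
    congr 1
    generalize qf u = a
    generalize qf v = b
    generalize bf u v = c
    revert a b c; decide
  rw [Finset.sum_congr rfl fun v _ => h1 v, Finset.sum_comm]
  have h2 : ∀ u : (D s).ker, ∑ v : (D s).ker, sg (qf u) * sg (bf u v) =
      if u = 0 then (Nat.card (D s).ker : ℂ) else 0 := by
    intro u
    rw [← Finset.mul_sum, sum_bf_ker h3 u]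
    split_ifs with h
    · subst h
      rw [show ((0 : (D s).ker) : L2) = 0 from rfl, qf_zero, sg_zero, one_mul]
    · rw [mul_zero]
  rw [Finset.sum_congr rfl fun u _ => h2 u, Finset.sum_ite_eq' Finset.univ (0 : (D s).ker), if_pos (Finset.mem_univ _)]

open Classical in
/-- **The vectors of type 2 of the fixed space.** -/
theorem card_two_le (h3 : s * s * s = 1) (hfr : fr s = 4096) :
    (Finset.univ.filter fun v : (D s).ker => IsType 2 (v : L2)).card ≤ 2079 := by
  have h4 : Nat.card (D s).ker = 4096 := by rw [← fr_eq, hfr]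
  have h5 := gauss_sq h3
  rw [h4] at h5
  set n := (Finset.univ.filter fun v : (D s).ker => qf (v : L2) = 0).card with hn
  have h6 : ∑ v : (D s).ker, sg (qf v) = 2 * (n : ℂ) - 4096 := by
    have e1 : ∀ v : (D s).ker, sg (qf v) = 2 * (if qf (v : L2) = 0 then (1 : ℂ) else 0) - 1 := by
      intro v
      rcases zcases (qf (v : L2)) with h | h
      · rw [h, sg_zero, if_pos rfl]; norm_num
      · rw [h, sg_one, if_neg (by decide)]; norm_num
    rw [Finset.sum_congr rfl fun v _ => e1 v, Finset.sum_sub_distrib, ← Finset.mul_sum, Finset.sum_boole,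
      Finset.sum_const, Finset.card_univ, nsmul_eq_mul, mul_one, ← Nat.card_eq_fintype_card, h4, hn]
    norm_num
    try congr
  rw [h6] at h5
  have h7 : (2 * (n : ℤ) - 4096) * (2 * (n : ℤ) - 4096) = 4096 := by
    have : (((2 * (n : ℤ) - 4096) * (2 * (n : ℤ) - 4096) : ℤ) : ℂ) = ((4096 : ℤ) : ℂ) := by
      push_cast
      rw [h5]
      norm_num
    exact_mod_cast this
  have h8 : n ≤ 2080 := by
    by_contra h
    push Not at h
    have : (2081 : ℤ) ≤ n := by exact_mod_cast h
    nlinarith
  have h9 : (Finset.univ.filter fun v : (D s).ker => IsType 2 (v : L2)) ⊆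
      (Finset.univ.filter fun v : (D s).ker => qf (v : L2) = 0).erase 0 := by
    intro v hv
    rw [Finset.mem_filter] at hv
    rw [Finset.mem_erase, Finset.mem_filter]
    refine ⟨?_, Finset.mem_univ _, ?_⟩
    · rintro rfl
      exact ne_zero_of_type (Or.inl rfl) hv.2 rfl
    · rw [qf_of_type hv.2]; rfl
  refine (Finset.card_le_card h9).trans ?_
  rw [Finset.card_erase_of_mem (by
    rw [Finset.mem_filter]
    exact ⟨Finset.mem_univ _, qf_zero⟩), ← hn]
  omega

end gauss

end Cfsg.Agent.H740.TC.RatThree
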