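import Cfsg.Agent.H740.TC.RatThreeA

/-!
# Elements of order 3 over a fixed space on `Λ/2Λ`: the subgroup `NN` (helper740)

`h : Chart Q z eta pi`, `s : Co1`, `s ^ 3 = 1`, `NN h s` the subgroup of the `x ∈ Q` with `eta x ∈ (s + 1) Λ/2Λ`.

* `card_NN` : `fr s * |NN h s| = 2 ^ 25`;
* `sum_NN` : `∑_{x ∈ NN} trace (ρ x) = |NN| ∑_{v ∈ Fix s} m v`;
* `conj_NN` : `g x` is conjugate to `g` or `g z` for `x ∈ NN h (pi g)`.
-/

set_option autoImplicit false

namespace Cfsg.Agent.H740.TC.RatThree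

open Module Cfsg Cfsg.Spor
open Cfsg.Agent.H847.Avg Cfsg.Agent.H847.QTrace Cfsg.Agent.H847.QDeg
open Cfsg.Agent.H847.Co1Small (sg sg_zero sg_one sg_add sg_sq zcases)
open Cfsg.Agent.LThreeMB (fr)
open Cfsg.Agent.MonsterU.Lam2
open Cfsg.Agent.MonsterU.Ch
open Cfsg.Agent.ConwayFacts.NormL2 (ne_zero_of_type)

attribute [local instance] Cfsg.Agent.H847.QTrace.fintypeL2

variable {G : Type*} [Group G] {Q : Subgroup G} {z : G} {eta : G → L2}
  {pi : Subgroup.centralizer ({z} : Set G) →* Co1}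

/-- the subgroup of the `x ∈ Q` over the image of `s + 1` -/
def NN (h : Chart Q z eta pi) (s : Co1) : Subgroup G where
  carrier := {x | x ∈ Q ∧ eta x ∈ (D s).range}
  one_mem' := ⟨Q.one_mem, by rw [h.eta_one]; exact zero_mem _⟩
  mul_mem' := by
    rintro a b ⟨ha, ha'⟩ ⟨hb, hb'⟩
    exact ⟨Q.mul_mem ha hb, by rw [h.eta_mul a ha b hb]; exact add_mem ha' hb'⟩
  inv_mem' := by
    rintro a ⟨ha, ha'⟩
    exact ⟨Q.inv_mem ha, by rw [h.eta_inv ha]; exact ha'⟩

variable (h : Chart Q z eta pi) (s : Co1)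

theorem mem_NN {x : G} : x ∈ NN h s ↔ x ∈ Q ∧ eta x ∈ (D s).range := Iff.rfl

theorem z_mem_NN : z ∈ NN h s := ⟨h.large.z_mem, by rw [h.eta_z]; exact zero_mem _⟩

/-- the map to the image -/
def toR : NN h s →* Multiplicative (D s).range where
  toFun x := Multiplicative.ofAdd ⟨eta x, x.2.2⟩
  map_one' := by
    rw [← ofAdd_zero]
    congr 1
    exact Subtype.ext h.eta_one
  map_mul' a b := by
    rw [← ofAdd_add]
    congr 1
    exact Subtype.ext (h.eta_mul a a.2.1 b b.2.1)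

theorem toR_eq_one {x : NN h s} : toR h s x = 1 ↔ (x : G) = 1 ∨ (x : G) = z := by
  rw [← h.eta_zero x x.2.1]
  constructor
  · intro h1
    exact congrArg Subtype.val (Multiplicative.ofAdd.injective (h1.trans ofAdd_zero.symm))
  · intro h1
    show Multiplicative.ofAdd _ = _
    rw [← ofAdd_zero]
    congr 1
    exact Subtype.ext h1

theorem toR_surj : Function.Surjective (toR h s) := by
  intro w
  obtain ⟨x, hx, hxw⟩ := h.eta_surj (w.toAdd : L2)
  refine ⟨⟨x, hx, ?_⟩, ?_⟩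
  · rw [hxw]; exact w.toAdd.2
  · exact congrArg Multiplicative.ofAdd (show (⟨eta x, _⟩ : (D s).range) = w.toAdd from Subtype.ext hxw)

theorem card_NN : fr s * Nat.card (NN h s) = 2 ^ 25 := by
  have h1 := Subgroup.card_eq_card_quotient_mul_card_subgroup (toR h s).ker
  have h2 : Nat.card (toR h s).ker = 2 := by
    have hz : (⟨z, z_mem_NN h s⟩ : NN h s) ∈ (toR h s).ker := (toR_eq_one h s).2 (Or.inr rfl)
    have e : (Set.univ : Set (toR h s).ker) = {1, ⟨⟨z, z_mem_NN h s⟩, hz⟩} := by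
      ext x
      simp only [Set.mem_univ, Set.mem_insert_iff, Set.mem_singleton_iff, true_iff]
      rcases (toR_eq_one h s).1 x.2 with h3 | h3
      · left; exact Subtype.ext (Subtype.ext h3)
      · right; exact Subtype.ext (Subtype.ext h3)
    rw [← Set.ncard_univ, e, Set.ncard_pair]
    intro h3
    exact h.large.z_ne (congrArg (fun x : (toR h s).ker => ((x : NN h s) : G)) h3).symm
  have h3 : Nat.card (NN h s ⧸ (toR h s).ker) = Nat.card (D s).range := by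
    rw [Nat.card_congr (QuotientGroup.quotientKerEquivOfSurjective _ (toR_surj h s)).toEquiv]
    exact Nat.card_congr Multiplicative.toAdd
  rw [h1, h2, h3, ← mul_assoc, card_mul]
  norm_num

section conj

variable {g : G} (hg : g ∈ Subgroup.centralizer ({z} : Set G))

theorem conj_mem_NN {x : G} (hx : x ∈ NN h (pi ⟨g, hg⟩)) : g * x * g⁻¹ ∈ NN h (pi ⟨g, hg⟩) := by
  refine ⟨h.large.conj_mem g (Subgroup.mem_centralizer_singleton_iff.1 hg) x hx.1, ?_⟩
  have h1 : eta (g * x * g⁻¹) = pi ⟨g, hg⟩ • eta x := h.eta_conj ⟨g, hg⟩ x hx.1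
  rw [h1]
  obtain ⟨w, hw⟩ := hx.2
  refine ⟨pi ⟨g, hg⟩ • w, ?_⟩
  rw [← hw, D_apply, D_apply, smul_add]

/-- **The coset.** -/
theorem conj_NN {x : G} (hx : x ∈ NN h (pi ⟨g, hg⟩)) :
    ∃ c : G, c * z = z * c ∧ (c * (g * x) * c⁻¹ = g ∨ c * (g * x) * c⁻¹ = g * z) := by
  obtain ⟨w, hw⟩ := hx.2
  set σ := pi ⟨g, hg⟩ with hσ
  -- `q g q⁻¹ = g (g⁻¹ q g q⁻¹)`, with image `σ⁻¹ v + v`, `v = σ w`
  obtain ⟨q, hq, hqw⟩ := h.eta_surj (σ • w)
  have hgi : g⁻¹ ∈ Subgroup.centralizer ({z} : Set G) := inv_mem hg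
  have hpi : pi ⟨g⁻¹, hgi⟩ = σ⁻¹ := by
    rw [hσ, ← map_inv]
    rfl
  have h1 : g⁻¹ * q * g ∈ Q := by
    have := h.large.conj_mem g⁻¹ (Subgroup.mem_centralizer_singleton_iff.1 hgi) q hq
    rwa [inv_inv] at this
  have h2 : eta (g⁻¹ * q * g) = w := by
    have h3 := h.eta_conj ⟨g⁻¹, hgi⟩ q hq
    rw [hpi, hqw, inv_smul_smul] at h3
    rw [← h3]
    show eta (g⁻¹ * q * g) = eta (g⁻¹ * q * g⁻¹⁻¹)
    rw [inv_inv]
  have hy : g⁻¹ * q * g * q⁻¹ ∈ Q := Q.mul_mem h1 (Q.inv_mem hq)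
  have h3 : eta (g⁻¹ * q * g * q⁻¹) = eta x := by
    rw [h.eta_mul _ h1 _ (Q.inv_mem hq), h2, h.eta_inv hq, hqw, ← hw, D_apply, add_comm]
  have hzq : ∀ {y : G}, y ∈ Q → y * z = z * y := fun {y} hy' => (h.large.comm_z y hy')
  refine ⟨q⁻¹, (hzq (Q.inv_mem hq)), ?_⟩
  rw [inv_inv]
  rcases (h.eta_eq hx.1 hy).1 h3.symm with h4 | h4
  · left
    rw [h4]; group
  · right
    rw [h4]
    calc q⁻¹ * (g * (g⁻¹ * q * g * q⁻¹ * z)) * q = g * (q⁻¹ * z * q) := by group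
      _ = g * (q⁻¹ * (z * q)) := by group
      _ = g * z := by rw [← hzq hq]; group

end conj

theorem exists_zz {x : G} (hx : x ∈ NN h s) (h1 : x ≠ 1) (h2 : x ≠ z) : ∃ c : G, c * z = z * c ∧ c * x * c⁻¹ = x * z := by
  obtain ⟨r, hr, hrx, -⟩ := exists_conj_yz h hx.1 (fun h3 => by
    rcases (h.eta_zero x hx.1).1 h3 with h4 | h4
    · exact h1 h4
    · exact h2 h4)
  exact ⟨r, (h.large.comm_z r hr), hrx⟩

section sum

variable {V : Type*} [AddCommGroup V] [Module ℂ V] [Fintype Q] [FiniteDimensional ℂ V]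

/-- **The sum over `NN`.** -/
theorem sum_NN [Fintype (NN h s)] (ρ : G →* (V →ₗ[ℂ] V)) :
    ∑ x : NN h s, LinearMap.trace ℂ V (ρ x) = (Nat.card (NN h s) : ℂ) * ∑ v : (D s).ker, (m Q eta ρ v : ℂ) := by
  classical
  have h1 : ∑ x : NN h s, LinearMap.trace ℂ V (ρ (x * z)) = ∑ x : NN h s, LinearMap.trace ℂ V (ρ x) :=
    Fintype.sum_equiv (Equiv.mulRight (⟨z, z_mem_NN h s⟩ : NN h s)) _ _ fun x => rfl
  have h2 : ∑ x : NN h s, LinearMap.trace ℂ V (ρ x) =
      ∑ x : NN h s, ∑ v : L2, sg (bf v (eta x)) * (m Q eta ρ v : ℂ) := by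
    have h3 : ∀ x : NN h s, ∑ v : L2, sg (bf v (eta x)) * (m Q eta ρ v : ℂ) =
        (1 / 2 : ℂ) * (LinearMap.trace ℂ V (ρ x) + LinearMap.trace ℂ V (ρ (x * z))) := fun x => sum_m h ρ x.2.1
    rw [Finset.sum_congr rfl fun x _ => h3 x, ← Finset.mul_sum, Finset.sum_add_distrib, h1]
    ring
  rw [h2, Finset.sum_comm]
  have h4 : ∀ v : L2, ∑ x : NN h s, sg (bf v (eta x)) * (m Q eta ρ v : ℂ) =
      if v ∈ (D s).ker then (Nat.card (NN h s) : ℂ) * (m Q eta ρ v : ℂ) else 0 := by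
    intro v
    rw [← Finset.sum_mul]
    split_ifs with hv
    · congr 1
      have h5 : ∀ x : NN h s, sg (bf v (eta x)) = 1 := fun x => by rw [bf_range hv x.2.2, sg_zero]
      rw [Finset.sum_congr rfl fun x _ => h5 x, Finset.sum_const, Finset.card_univ, nsmul_eq_mul, mul_one,
        Nat.card_eq_fintype_card]
    · obtain ⟨w, hw⟩ := exists_range hv
      obtain ⟨y, hy, hyw⟩ := h.eta_surj w
      have hyN : y ∈ NN h s := ⟨hy, by rw [hyw]; exact w.2⟩
      have h5 : ∑ x : NN h s, sg (bf v (eta x)) = ∑ x : NN h s, -sg (bf v (eta x)) := by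
        refine Fintype.sum_equiv (Equiv.mulRight (⟨y, hyN⟩ : NN h s)) _ _ fun x => ?_
        rw [Equiv.coe_mulRight, show ((x * ⟨y, hyN⟩ : NN h s) : G) = x * y from rfl, h.eta_mul x x.2.1 y hy, hyw,
          bf_add_right, sg_add, hw, sg_one]
        ring
      rw [Finset.sum_neg_distrib] at h5
      have h6 : (2 : ℂ) * ∑ x : NN h s, sg (bf v (eta x)) = 0 := by linear_combination h5
      rw [(mul_eq_zero.1 h6).resolve_left two_ne_zero, zero_mul]
  rw [Finset.sum_congr rfl fun v _ => h4 v, Finset.mul_sum, ← Finset.sum_filter]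
  symm
  refine Finset.sum_subtype (Finset.univ.filter fun v : L2 => v ∈ (D s).ker) (p := fun v => v ∈ (D s).ker) (by simp)
    (fun v => (Nat.card (NN h s) : ℂ) * (m Q eta ρ v : ℂ)) |>.symm

include h in
/-- **The multiplicities over the fixed space.** -/
theorem sum_ker_le (hs3 : s * s * s = 1) (hfr : fr s = 4096) (ρ : G →* (V →ₗ[ℂ] V)) {x2 x3 x4 : L2}
    (h2 : IsType 2 x2) (h3 : IsType 3 x3) (h4 : IsType 4 x4) :
    ∑ v : (D s).ker, m Q eta ρ v ≤
      m Q eta ρ 0 + 2079 * m Q eta ρ x2 + 4095 * m Q eta ρ x3 + 4095 * m Q eta ρ x4 := by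
  classical
  have e1 : ∀ v : (D s).ker, m Q eta ρ v ≤ (if v = 0 then m Q eta ρ 0 else 0) +
      (if IsType 2 (v : L2) then 1 else 0) * m Q eta ρ x2 + (if v ≠ 0 then 1 else 0) * (m Q eta ρ x3 + m Q eta ρ x4) := by
    intro v
    by_cases hv : v = 0
    · subst hv
      rw [if_pos rfl, show ((0 : (D s).ker) : L2) = 0 from rfl]
      omega
    · rw [if_neg hv, if_pos hv]
      have hv' : (v : L2) ≠ 0 := fun e => hv (Subtype.ext e)
      rcases type_cases (v : L2) with h5 | h5 | h5 | h5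
      · exact absurd h5 hv'
      · rw [if_pos h5, m_type h ρ (Or.inl rfl) h5 h2]; omega
      · rw [m_type h ρ (Or.inr (Or.inl rfl)) h5 h3]
        have := Nat.zero_le ((if IsType 2 (v : L2) then 1 else 0) * m Q eta ρ x2)
        omega
      · rw [m_type h ρ (Or.inr (Or.inr rfl)) h5 h4]
        have := Nat.zero_le ((if IsType 2 (v : L2) then 1 else 0) * m Q eta ρ x2)
        omega
  refine (Finset.sum_le_sum fun v _ => e1 v).trans ?_
  rw [Finset.sum_add_distrib, Finset.sum_add_distrib, Finset.sum_ite_eq' Finset.univ (0 : (D s).ker),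
    if_pos (Finset.mem_univ _), ← Finset.sum_mul, ← Finset.sum_mul, Finset.sum_boole, Finset.sum_boole]
  have e2 := card_two_le hs3 hfr
  have e3 : (Finset.univ.filter fun v : (D s).ker => v ≠ 0).card ≤ 4095 := by
    rw [Finset.filter_ne', Finset.card_erase_of_mem (Finset.mem_univ _), Finset.card_univ, ← Nat.card_eq_fintype_card,
      ← fr_eq, hfr]
  push_cast
  have e4 := Nat.mul_le_mul_right (m Q eta ρ x2) e2
  have e5 := Nat.mul_le_mul_right (m Q eta ρ x3 + m Q eta ρ x4) e3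
  have e6 : 4095 * (m Q eta ρ x3 + m Q eta ρ x4) = 4095 * m Q eta ρ x3 + 4095 * m Q eta ρ x4 := by ring
  rw [e6] at e5
  have e7 : (Finset.univ.filter fun v : (D s).ker => IsType 2 (v : L2)).card * m Q eta ρ x2 ≤ 2079 * m Q eta ρ x2 := by
    convert e4
  omega

end sum

end Cfsg.Agent.H740.TC.RatThree
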