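import Cfsg.Agent.H740.TC.RatThreeB
import Cfsg.Agent.H529.MSev.RatExt

/-!
# Elements of order 3 over a fixed space of order `2 ^ 12`: the bound (helper740)

`bound_abs` : `h : Chart Q z eta pi`, `χ` a character of `G` of degree `n ≥ 10 ^ 6` with `41 |χ(z)| ≤ n + 257`, `g ^ 3 = 1`,
`g` commutes with `z` and `pi g` has `4096` fixed points: `- 0.0252 n ≤ Re χ(g) ≤ 0.0426 n`.
-/

set_option autoImplicit false

namespace Cfsg.Agent.H740.TC.RatThree

open Module Cfsg Cfsg.Spor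
open Cfsg.Agent.H847.Avg Cfsg.Agent.H847.QTrace Cfsg.Agent.H847.QDeg Cfsg.Agent.H562.OreM.QVal
open Cfsg.Agent.H847.Co1Small (sg sg_zero sg_one sg_add sg_sq zcases)
open Cfsg.Agent.LThreeMB (fr)
open Cfsg.Agent.MonsterU.Lam2
open Cfsg.Agent.MonsterU.Ch
open Cfsg.Agent.ConwayFacts.NormL2 (ne_zero_of_type ncard_two ncard_three ncard_four)

attribute [local instance] Cfsg.Agent.H847.QTrace.fintypeL2

variable {G : Type*} [Group G] {Q : Subgroup G} {z : G} {eta : G → L2}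
  {pi : Subgroup.centralizer ({z} : Set G) →* Co1}

/-- **Degree, value at `z`, multiplicity over the fixed space.** -/
theorem key {V : Type*} [AddCommGroup V] [Module ℂ V] [FiniteDimensional ℂ V] (h : Chart Q z eta pi)
    (ρ : G →* (V →ₗ[ℂ] V)) {y4 : G} (h4Q : y4 ∈ Q) (h4 : IsType 4 (eta y4)) (hconj : ∃ g, g * z * g⁻¹ = y4)
    {s : Co1} (hs3 : s * s * s = 1) (hfr : fr s = 4096) :
    ∃ a b c e : ℕ, finrank ℂ V = a + 196584 * b + 16775168 * c + 16582679 * e ∧
      LinearMap.trace ℂ V (ρ z) = (((a : ℤ) - 24 * b - 2048 * c + 2071 * e : ℤ) : ℂ) ∧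
      ∑ v : (D s).ker, m Q eta ρ v ≤ a + 2079 * b + 4095 * c + 4095 * e := by
  have hfin := h.fin
  have : Fintype Q := Fintype.ofFinite Q
  obtain ⟨x2, h2⟩ : {x : L2 | IsType 2 x}.Nonempty := Set.nonempty_of_ncard_ne_zero (by rw [ncard_two]; norm_num)
  obtain ⟨x3, h3⟩ : {x : L2 | IsType 3 x}.Nonempty := Set.nonempty_of_ncard_ne_zero (by have := ncard_three; omega)
  have t4 : LinearMap.trace ℂ V (ρ y4) = LinearMap.trace ℂ V (ρ z) := by
    obtain ⟨g, rfl⟩ := hconj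
    exact trace_conj ρ g z
  have n4 : eta y4 ≠ 0 := ne_zero_of_type (Or.inr rfl) h4
  have e0 := sum_m h ρ Q.one_mem
  have e4 := sum_m h ρ h4Q
  rw [trace_z h h4Q n4, t4, sum_mult h ρ h2 h3 h4, S_two_of_four h4, S_three_of_four h4, S_four_of_four h4] at e4
  have s0 : ∀ n, S n 0 = ((Tn n).card : ℂ) := fun n => by
    unfold S
    rw [sum_const n (c := 1) (fun v _ => by rw [bf_zero_right, sg_zero]), mul_one]
  rw [h.eta_one, one_mul, map_one, LinearMap.trace_one, sum_mult h ρ h2 h3 h4, s0, s0, s0, card_two, card_three,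
    card_four] at e0
  refine ⟨m Q eta ρ 0, m Q eta ρ x2, m Q eta ρ x3, m Q eta ρ (eta y4), ?_, ?_, sum_ker_le h s hs3 hfr ρ h2 h3 h4⟩
  · have : ((finrank ℂ V : ℕ) : ℂ) = ((m Q eta ρ 0 + 196584 * m Q eta ρ x2 + 16775168 * m Q eta ρ x3 +
        16582679 * m Q eta ρ (eta y4) : ℕ) : ℂ) := by
      push_cast
      linear_combination (-2 : ℂ) * e0 + (1 : ℂ) * e4
    exact_mod_cast this
  · push_cast
    linear_combination (-1 : ℂ) * e4

/-- **The bound.** -/
theorem bound_abs [Finite G] (h : Chart Q z eta pi) {y4 : G} (h4Q : y4 ∈ Q) (h4 : IsType 4 (eta y4))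
    (hconj : ∃ g, g * z * g⁻¹ = y4) {g : G} (hg : g ∈ Subgroup.centralizer ({z} : Set G)) (hg3 : g * g * g = 1)
    (hfr : fr (pi ⟨g, hg⟩) = 4096) {n : ℕ} (ρ : Representation ℂ G (Fin n → ℂ)) {v : ℤ} (hv : ρ.character z = v)
    (h41 : 41 * |v| ≤ n + 257) (hn : 1000000 ≤ n) :
    -((252 / 10000 : ℝ) * n) ≤ (ρ.character g).re ∧ (ρ.character g).re ≤ (426 / 10000 : ℝ) * n := by
  classical
  have hfin := h.fin
  have : Fintype Q := Fintype.ofFinite Q
  set s := pi ⟨g, hg⟩ with hs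
  have hs3 : s * s * s = 1 := by
    rw [hs, ← map_mul, ← map_mul, ← map_one pi]
    congr 1
    exact Subtype.ext hg3
  have : Fintype (NN h s) := Fintype.ofFinite _
  have hcard : Nat.card (NN h s) = 2 * 64 ^ 2 := by
    have h1 := card_NN h s
    rw [hfr] at h1
    omega
  obtain ⟨a, b, c, e, e1, e2, e3⟩ := key h ρ h4Q h4 hconj hs3 hfr
  have hzc : g * z = z * g := Subgroup.mem_centralizer_singleton_iff.1 hg
  obtain ⟨k1, k2⟩ := H529.MSev.RatExt.ratio (z := z) (s := g) (N := NN h s) (m := 64) (χ := ρ.character)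
    h.large.z_sq h.large.z_ne (z_mem_NN h s) (fun x hx => h.large.comm_z x hx.1) hzc
    (fun x hx => conj_mem_NN h hg hx) (by rw [hg3]; exact one_mem _) (fun x hx => conj_NN h hg hx)
    (fun x hx h1 h2 => exists_zz h s hx h1 h2) (by norm_num) hcard ⟨n, ρ, rfl⟩
  have f1 : (∑ x : NN h s, ρ.character x).re / Nat.card (NN h s) = ((∑ v : (D s).ker, m Q eta ρ v : ℕ) : ℝ) := by
    have h1 := sum_NN h s ρ
    have h2 : ∑ x : NN h s, ρ.character (x : G) = ∑ x : NN h s, LinearMap.trace ℂ (Fin n → ℂ) (ρ x) := rfl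
    rw [h2, h1]
    have h3 : ((Nat.card (NN h s) : ℂ) * ∑ v : (D s).ker, (m Q eta ρ v : ℂ)) =
        (((Nat.card (NN h s) : ℝ) * ((∑ v : (D s).ker, m Q eta ρ v : ℕ) : ℝ) : ℝ) : ℂ) := by
      push_cast
      rfl
    rw [h3, Complex.ofReal_re]
    have h4 : (0 : ℝ) < (Nat.card (NN h s) : ℝ) := by exact_mod_cast Nat.card_pos
    field_simp
  have f2 : (ρ.character 1 - ρ.character z).re = (n : ℝ) - v := by
    have h1 : ρ.character 1 = (n : ℂ) := by simp
    rw [h1, hv]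
    simp
  rw [f1, f2] at k1 k2
  have e1' : (n : ℝ) = a + 196584 * b + 16775168 * c + 16582679 * e := by
    rw [Module.finrank_fin_fun] at e1
    exact_mod_cast e1
  have e2' : (v : ℝ) = a - 24 * b - 2048 * c + 2071 * e := by
    have h1 : (v : ℂ) = (((a : ℤ) - 24 * b - 2048 * c + 2071 * e : ℤ) : ℂ) := by
      rw [← hv, ← e2]; rfl
    have h2 : v = (a : ℤ) - 24 * b - 2048 * c + 2071 * e := by exact_mod_cast h1
    rw [h2]; push_cast; ring
  have e3' : ((∑ v : (D s).ker, m Q eta ρ v : ℕ) : ℝ) ≤ a + 2079 * b + 4095 * c + 4095 * e := by exact_mod_cast e3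
  have e4' : (41 : ℝ) * v ≤ n + 257 := by
    have h1 : 41 * v ≤ n + 257 := by
      have := le_abs_self v
      omega
    exact_mod_cast h1
  have hn' : (1000000 : ℝ) ≤ n := by exact_mod_cast hn
  have ha : (0 : ℝ) ≤ a := Nat.cast_nonneg _
  have hb : (0 : ℝ) ≤ b := Nat.cast_nonneg _
  have hc : (0 : ℝ) ≤ c := Nat.cast_nonneg _
  have he : (0 : ℝ) ≤ e := Nat.cast_nonneg _
  generalize ((∑ v : (D s).ker, m Q eta ρ v : ℕ) : ℝ) = F at *
  push_cast at k1 k2
  constructor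
  · refine le_trans ?_ k1
    have h5 : F / 2 ≤ (a + 2079 * b + 4095 * c + 4095 * e) / 2 := by linarith
    linarith
  · refine k2.trans ?_
    linarith

end Cfsg.Agent.H740.TC.RatThree
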